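import Mathlib
import Cfsg.Agent.Lib.Helper54.Dihedral

/-!
# Recognition of the dihedral group of order 12

Package PK-D12 of the S3685 project (Wong's theorem).
-/

set_option autoImplicit false

namespace Cfsg.Agent.Lib.Helper22.Sub3

theorem iso_D12 {H : Type*} [Group H] [Finite H] (hcard : Nat.card H = 12) (T : Subgroup H)
    (hT : Nat.card T = 4) (hTn : ¬ T.Normal) (z σ : H) (hzT : z ∈ T) (hσT : σ ∈ T) (hz1 : z ≠ 1)
    (hz2 : z * z = 1) (hzc : ∀ g : H, g * z = z * g) (hσ1 : σ ≠ 1) (hσz : σ ≠ z)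
    (hσ2 : σ * σ = 1) : Nonempty (H ≃* DihedralGroup 6) := by
  classical
  have h3 : Fact (Nat.Prime 3) := ⟨by norm_num⟩
  obtain ⟨ρ, hρ⟩ := exists_prime_orderOf_dvd_card' (G := H) 3 (by rw [hcard]; norm_num)
  have hz_ord : orderOf z = 2 := by
    apply orderOf_eq_prime
    · rw [pow_two]; exact hz2
    · exact hz1
  have hcomm : Commute ρ z := hzc ρ
  obtain ⟨a, ha_def⟩ : ∃ a : H, a = ρ * z := ⟨_, rfl⟩
  have ha : orderOf a = 6 := by
    have := hcomm.orderOf_mul_eq_mul_orderOf_of_coprime (by rw [hρ, hz_ord]; norm_num)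
    rw [ha_def, this, hρ, hz_ord]
  have ha6 : a ^ (6 : ℤ) = 1 := by
    have := pow_orderOf_eq_one a
    rw [ha] at this
    exact_mod_cast this
  have ha3 : a ^ (3 : ℤ) = z := by
    have h1 : a ^ 3 = ρ ^ 3 * z ^ 3 := by rw [ha_def]; exact hcomm.mul_pow 3
    have h2 : ρ ^ 3 = 1 := by rw [← hρ]; exact pow_orderOf_eq_one ρ
    have h3' : z ^ 3 = z := by
      rw [pow_succ, pow_two, hz2, one_mul]
    rw [h2, h3', one_mul] at h1
    exact_mod_cast h1
  have hzpow : ∀ j : ℤ, z ^ j = 1 ∨ z ^ j = z := by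
    intro j
    have hz2' : z ^ (2 : ℤ) = 1 := by
      have : z ^ 2 = 1 := by rw [pow_two]; exact hz2
      exact_mod_cast this
    rcases Int.even_or_odd' j with ⟨i, hi | hi⟩
    · left
      rw [hi, zpow_mul, hz2', one_zpow]
    · right
      rw [hi, zpow_add, zpow_mul, hz2', one_zpow, one_mul, zpow_one]
  have hσinv : σ⁻¹ = σ := inv_eq_of_mul_eq_one_left hσ2
  -- σ is not a power of a
  have hσa : σ ∉ Subgroup.zpowers a := by
    intro hmem
    obtain ⟨k, hk⟩ := Subgroup.mem_zpowers_iff.mp hmem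
    have h1 : a ^ (k + k) = 1 := by rw [zpow_add, hk]; exact hσ2
    have h2 : ((orderOf a : ℕ) : ℤ) ∣ k + k := orderOf_dvd_iff_zpow_eq_one.mpr h1
    rw [ha] at h2
    have h3k : ∃ j : ℤ, k = 3 * j := by
      obtain ⟨m, hm⟩ := h2
      exact ⟨m, by push_cast at hm; omega⟩
    obtain ⟨j, hj⟩ := h3k
    have h4 : σ = z ^ j := by rw [← hk, hj, zpow_mul, ha3]
    rcases hzpow j with h | h
    · exact hσ1 (h4.trans h)
    · exact hσz (h4.trans h)
  -- the cyclic subgroup has index 2
  have hAcard : Nat.card (Subgroup.zpowers a) = 6 := by rw [Nat.card_zpowers, ha]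
  have hAidx : (Subgroup.zpowers a).index = 2 := by
    have := (Subgroup.zpowers a).index_mul_card
    rw [hAcard, hcard] at this
    omega
  have hAnorm : (Subgroup.zpowers a).Normal := Subgroup.normal_of_index_eq_two hAidx
  -- conjugation by σ on a
  have hconj_mem : σ * a * σ⁻¹ ∈ Subgroup.zpowers a :=
    hAnorm.conj_mem a (Subgroup.mem_zpowers a) σ
  obtain ⟨k, hk⟩ := Subgroup.mem_zpowers_iff.mp hconj_mem
  have hkk : a ^ (k * k) = a := by
    have h1 : σ * (σ * a * σ⁻¹) * σ⁻¹ = a := by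
      rw [hσinv]
      calc σ * (σ * a * σ) * σ = (σ * σ) * a * (σ * σ) := by simp only [mul_assoc]
        _ = a := by rw [hσ2, one_mul, mul_one]
    have h2 : σ * (a ^ k) * σ⁻¹ = (σ * a * σ⁻¹) ^ k := by
      rw [conj_zpow]
    rw [← hk, h2, ← hk, ← zpow_mul] at h1
    exact h1
  have hdvd : (6 : ℤ) ∣ k * k - 1 := by
    have h1 : a ^ (k * k - 1) = 1 := by
      rw [zpow_sub, zpow_one, hkk, mul_inv_cancel]
    have h2 : ((orderOf a : ℕ) : ℤ) ∣ k * k - 1 := orderOf_dvd_iff_zpow_eq_one.mpr h1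
    rw [ha] at h2
    exact_mod_cast h2
  have hk6 : k = 6 * (k / 6) + k % 6 := by omega
  have hr0 : 0 ≤ k % 6 := by omega
  have hr6 : k % 6 < 6 := by omega
  generalize hq : k / 6 = q at hk6
  generalize hr : k % 6 = r at hk6 hr0 hr6
  have hdvd' : (6 : ℤ) ∣ r * r - 1 := by
    rw [hk6] at hdvd
    have e : (6 * q + r) * (6 * q + r) - 1 = 6 * (6 * q * q + 2 * q * r) + (r * r - 1) := by ring
    rw [e] at hdvd
    exact (Int.dvd_add_right (Dvd.intro _ rfl)).mp hdvd
  have hcases : σ * a * σ⁻¹ = a ∨ σ * a * σ⁻¹ = a⁻¹ := by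
    rw [← hk, hk6]
    interval_cases r
    · exfalso; omega
    · left
      rw [zpow_add, zpow_mul, ha6, one_zpow, one_mul, zpow_one]
    · exfalso; omega
    · exfalso; omega
    · exfalso; omega
    · right
      have e : (6 : ℤ) * q + 5 = 6 * (q + 1) + (-1) := by ring
      rw [e, zpow_add, zpow_mul, ha6, one_zpow, one_mul, zpow_neg_one]
  rcases hcases with hcomm_case | hinv_case
  · -- σ commutes with a: H is abelian and T is normal
    exfalso
    apply hTn
    have hσa_comm : σ * a = a * σ := by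
      calc σ * a = σ * a * σ⁻¹ * σ := by group
        _ = a * σ := by rw [hcomm_case]
    have hmem_or : ∀ g : H, g ∈ Subgroup.zpowers a ∨ σ * g ∈ Subgroup.zpowers a := by
      intro g
      by_cases hg : g ∈ Subgroup.zpowers a
      · exact Or.inl hg
      · right
        rw [Subgroup.mul_mem_iff_of_index_two hAidx]
        exact ⟨fun h => absurd h hσa, fun h => absurd h hg⟩
    have ha_cen : a ∈ Subgroup.center H := by
      rw [Subgroup.mem_center_iff]
      intro g
      have key : ∀ x ∈ Subgroup.zpowers a, x * a = a * x := by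
        intro x hx
        obtain ⟨i, rfl⟩ := Subgroup.mem_zpowers_iff.mp hx
        exact ((Commute.refl a).zpow_left i).eq
      rcases hmem_or g with hg | hg
      · exact key g hg
      · have h1 := key _ hg
        calc g * a = σ * (σ * g * a) := by
              rw [mul_assoc σ g a, ← mul_assoc σ σ (g * a), hσ2, one_mul]
          _ = σ * (a * (σ * g)) := by rw [h1]
          _ = a * (σ * (σ * g)) := by rw [← mul_assoc, hσa_comm, mul_assoc]
          _ = a * g := by rw [← mul_assoc σ σ g, hσ2, one_mul]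
    have hσ_cen : σ ∈ Subgroup.center H := by
      rw [Subgroup.mem_center_iff]
      intro g
      have key : ∀ x ∈ Subgroup.zpowers a, x * σ = σ * x := by
        intro x hx
        obtain ⟨i, rfl⟩ := Subgroup.mem_zpowers_iff.mp hx
        have hc : Commute a σ := hσa_comm.symm
        exact (hc.zpow_left i).eq
      rcases hmem_or g with hg | hg
      · exact key g hg
      · have h1 := key _ hg
        calc g * σ = σ * (σ * g * σ) := by
              rw [mul_assoc σ g σ, ← mul_assoc σ σ (g * σ), hσ2, one_mul]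
          _ = σ * (σ * (σ * g)) := by rw [h1]
          _ = σ * g := by rw [← mul_assoc σ σ g, hσ2, one_mul]
    have hall : ∀ g : H, g ∈ Subgroup.center H := by
      intro g
      rcases hmem_or g with hg | hg
      · obtain ⟨i, rfl⟩ := Subgroup.mem_zpowers_iff.mp hg
        exact Subgroup.zpow_mem _ ha_cen i
      · obtain ⟨i, hi⟩ := Subgroup.mem_zpowers_iff.mp hg
        have e : g = σ * (σ * g) := by rw [← mul_assoc, hσ2, one_mul]
        rw [e, ← hi]
        exact Subgroup.mul_mem _ hσ_cen (Subgroup.zpow_mem _ ha_cen i)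
    refine ⟨fun n hn g => ?_⟩
    have hg := Subgroup.mem_center_iff.mp (hall g) n
    have e : g * n * g⁻¹ = n := by
      rw [← hg, mul_inv_cancel_right]
    rw [e]
    exact hn
  · exact Cfsg.Agent.Lib.Helper54.nonempty_mulEquiv_dihedralGroup (x := σ) (a := a) (n := 6)
      (by rw [pow_two]; exact hσ2) ha (by rw [hcard]) hσa hinv_case

end Cfsg.Agent.Lib.Helper22.Sub3
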